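import Mathlib.AlgebraicGeometry.AffineScheme
import Mathlib.RingTheory.Nilpotent.Lemmas
import Mathlib.Data.Nat.Choose.Sum

/-!
High powers of a ring element do not see nilpotent perturbations killed by it.
-/

set_option autoImplicit false

universe u

open AlgebraicGeometry CategoryTheory

namespace Groth.Agent.NilAmple

section

variable {R S : Type*} [CommRing R] [CommRing S]

theorem pow_add_eq_pow {g δ : R} {M N m : ℕ} (h1 : g ^ M * δ = 0) (h2 : δ ^ N = 0) (hm : M + N ≤ m) :
    (g + δ) ^ m = g ^ m := by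
  rw [add_comm g δ, add_pow]
  rw [Finset.sum_eq_single 0]
  · simp
  · intro i hi hi0
    by_cases hN : N ≤ i
    · rw [pow_eq_zero_of_le hN h2, zero_mul, zero_mul]
    · obtain ⟨t, ht⟩ := Nat.exists_eq_add_of_le (show M ≤ m - i by omega)
      obtain ⟨i', rfl⟩ := Nat.exists_eq_add_of_le' (Nat.pos_of_ne_zero hi0)
      rw [ht, show δ ^ (i' + 1) * g ^ (M + t) = δ ^ i' * g ^ t * (g ^ M * δ) by ring, h1, mul_zero, zero_mul]
  · simp

/-- If `w` differs from `f` by a nilpotent in the localization away from `f`, high powers of `w` come from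
perturbations of powers of `f`. -/
theorem exists_pow_lift [Algebra R S] (f : R) [IsLocalization.Away f S] (w : S)
    (hw : IsNilpotent (w - algebraMap R S f)) :
    ∃ k₀ : ℕ, ∀ k, k₀ ≤ k → ∃ g : R, algebraMap R S g = w ^ k ∧ IsNilpotent (g - f ^ k) := by
  obtain ⟨u, hu⟩ := IsLocalization.Away.algebraMap_isUnit (S := S) f
  set ν : S := ↑u⁻¹ * (w - algebraMap R S f) with hν
  have hw' : w = algebraMap R S f * (1 + ν) := by
    rw [hν, ← hu, mul_add, mul_one, Units.mul_inv_cancel_left, add_sub_cancel]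
  have hνn : IsNilpotent ν := (Commute.all _ _).isNilpotent_mul_left hw
  obtain ⟨r, a₀, ha₀⟩ := IsLocalization.Away.surj f ν
  have ha₀n : IsNilpotent (algebraMap R S a₀) := ha₀ ▸ (Commute.all _ _).isNilpotent_mul_right hνn
  obtain ⟨N, hN⟩ := ha₀n
  rw [← map_pow, IsLocalization.map_eq_zero_iff (Submonoid.powers f)] at hN
  obtain ⟨⟨_, q, rfl⟩, hq⟩ := hN
  set a : R := f ^ q * a₀ with ha
  have han : a ^ (N + 1) = 0 := by
    simp only at hq
    rw [ha, mul_pow, pow_succ a₀, ← pow_mul, mul_add, mul_one, pow_add,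
      show (f ^ (q * N) * f ^ q) * (a₀ ^ N * a₀) = f ^ (q * N) * a₀ * (f ^ q * a₀ ^ N) by ring, hq, mul_zero]
  have haν : algebraMap R S a = ν * algebraMap R S f ^ (r + q) := by
    rw [ha, map_mul, map_pow, ← ha₀, pow_add]; ring
  have hνN : ν ^ (N + 1) = 0 := by
    have := congrArg (algebraMap R S) han
    rw [map_pow, haν, mul_pow, map_zero, ← pow_mul, ← hu, ← Units.val_pow_eq_pow_val] at this
    exact (Units.mul_left_eq_zero _).mp this
  refine ⟨(r + q + 1) * (N + 1), fun k hk => ?_⟩
  refine ⟨∑ i ∈ Finset.range (N + 1), (k.choose i : R) * a ^ i * f ^ (k - (r + q) * i), ?_, ?_⟩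
  · have hexp : (1 + ν) ^ k = ∑ i ∈ Finset.range (N + 1), (k.choose i : S) * ν ^ i := by
      rw [add_comm, add_pow]
      simp only [one_pow, mul_one]
      rw [← Finset.sum_subset (Finset.range_mono (show N + 1 ≤ k + 1 by nlinarith))]
      · exact Finset.sum_congr rfl fun i _ => mul_comm _ _
      · intro i _ hi
        rw [pow_eq_zero_of_le (by simpa using hi) hνN, zero_mul]
    rw [hw', mul_pow, hexp, Finset.mul_sum, map_sum]
    refine Finset.sum_congr rfl fun i hi => ?_
    have hle : (r + q) * i ≤ k := by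
      have := Finset.mem_range.mp hi
      nlinarith
    obtain ⟨t, ht⟩ := Nat.exists_eq_add_of_le hle
    rw [map_mul, map_mul, map_natCast, map_pow, map_pow, haν, ht, Nat.add_sub_cancel_left, mul_pow,
      ← pow_mul, pow_add]
    ring
  · rw [Finset.sum_range_succ', Nat.choose_zero_right, Nat.cast_one, one_mul, pow_zero, one_mul,
      mul_zero, Nat.sub_zero, add_sub_cancel_right]
    refine isNilpotent_sum fun i _ => ⟨N + 1, ?_⟩
    rw [mul_pow, mul_pow, ← pow_mul, pow_eq_zero_of_le (Nat.le_mul_of_pos_left _ (Nat.succ_pos i)) han,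
      mul_zero, zero_mul]

end

theorem basicOpen_eq_of_isNilpotent {X : Scheme.{u}} {U : X.Opens} (a b : Γ(X, U))
    (h : IsNilpotent (a - b)) : X.basicOpen a = X.basicOpen b := by
  ext x
  by_cases hx : x ∈ U
  swap
  · exact ⟨fun hx' => absurd (X.basicOpen_le a hx') hx, fun hx' => absurd (X.basicOpen_le b hx') hx⟩
  show x ∈ X.basicOpen a ↔ x ∈ X.basicOpen b
  rw [X.mem_basicOpen a x hx, X.mem_basicOpen b x hx]
  have h' := h.map (X.presheaf.germ U x hx).hom
  rw [map_sub] at h'
  constructor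
  · intro ha
    simpa using h'.neg.isUnit_add_left_of_commute ha (Commute.all _ _)
  · intro hb
    simpa using h'.isUnit_add_left_of_commute hb (Commute.all _ _)

theorem basicOpen_le_of_sub {X : Scheme.{u}} {U : X.Opens} (a b : Γ(X, U)) :
    X.basicOpen (b - a) ≤ X.basicOpen a ⊔ X.basicOpen b := by
  intro x hx
  have hxU : x ∈ U := X.basicOpen_le _ hx
  by_contra h
  rw [TopologicalSpace.Opens.mem_sup, X.mem_basicOpen a x hxU, X.mem_basicOpen b x hxU, not_or] at h
  rw [X.mem_basicOpen _ x hxU, map_sub] at hx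
  rw [← IsLocalRing.notMem_maximalIdeal] at hx
  rw [← mem_nonunits_iff, ← mem_nonunits_iff, ← IsLocalRing.mem_maximalIdeal, ← IsLocalRing.mem_maximalIdeal] at h
  exact hx (sub_mem h.2 h.1)

end Groth.Agent.NilAmple
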