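import Groth.Agent.NilAmple.Lift
import Groth.Agent.ProjUPX.Affine

/-!
A section with affine locus on a homeomorphic closed subscheme gives, after raising to a power, a section
with the same locus.
-/

set_option autoImplicit false
set_option backward.isDefEq.respectTransparency false
set_option backward.isDefEq.respectTransparency.types false

universe u

open CategoryTheory AlgebraicGeometry TopologicalSpace
open Groth.Agent.H23.PicMul

namespace Groth.Agent.NilAmple

open Groth.Agent Groth.Agent.AmpleX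

variable {X Z : Scheme.{u}}

theorem exists_affine_frame_cover {P : X.Modules} (hP : PicF.IsInvertible P) {W : X.Opens}
    (hW : IsCompact (W : Set X)) :
    ∃ (s : Set X.Opens) (_ : s.Finite), (∀ V ∈ s, V ≤ W ∧ IsAffineOpen V ∧ ∃ ε : Γ(P, V), InvX.IsFrame ε) ∧
      ∀ x ∈ W, ∃ V ∈ s, x ∈ V := by
  have h : ∀ x : W, ∃ V : X.Opens, x.1 ∈ V ∧ V ≤ W ∧ IsAffineOpen V ∧ ∃ ε : Γ(P, V), InvX.IsFrame ε := by
    intro x
    obtain ⟨V₀, hxV₀, ε, hε⟩ := InvX.exists_frame hP x.1
    obtain ⟨_, ⟨V, hV, rfl⟩, hxV, hle⟩ :=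
      X.isBasis_affineOpens.exists_subset_of_mem_open (show x.1 ∈ W ⊓ V₀ from ⟨x.2, hxV₀⟩) (W ⊓ V₀).2
    exact ⟨V, hxV, fun y hy => (hle hy).1, hV, _, hε.res (show V ≤ V₀ from fun y hy => (hle hy).2)⟩
  choose V hxV hVW hVa hVf using h
  obtain ⟨t, ht⟩ := hW.elim_finite_subcover (fun x : W => (V x : Set X)) (fun x => (V x).2)
    fun x hx => Set.mem_iUnion.mpr ⟨⟨x, hx⟩, hxV ⟨x, hx⟩⟩
  refine ⟨V '' t, t.finite_toSet.image V, ?_, fun x hx => ?_⟩
  · rintro _ ⟨x, -, rfl⟩
    exact ⟨hVW x, hVa x, hVf x⟩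
  · obtain ⟨y, hy, hxy⟩ := Set.mem_iUnion₂.mp (ht hx)
    exact ⟨V y, Set.mem_image_of_mem V hy, hxy⟩

/-- Two sections with the same locus, equal there, have equal high powers. -/
theorem eventually_powElt_eq {Q : X.Modules} (hQ : PicF.IsInvertible Q) {W : X.Opens}
    (hW : IsCompact (W : Set X)) (a b : Γ(Q, W)) (hl : locus a = locus b)
    (hab : AModX.res Q (locus_le a) a = AModX.res Q (locus_le a) b) :
    ∃ m₀ : ℕ, ∀ m, m₀ ≤ m → powElt a m = powElt b m := by
  obtain ⟨s, hs, hsV, hcov⟩ := exists_affine_frame_cover hQ hW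
  have h : ∀ V : s, ∃ m₀ : ℕ, ∀ m, m₀ ≤ m →
      AModX.res _ (hsV V.1 V.2).1 (powElt a m) = AModX.res _ (hsV V.1 V.2).1 (powElt b m) := by
    intro ⟨V, hVs⟩
    obtain ⟨hVW, hVa, ε, hε⟩ := hsV V hVs
    obtain ⟨g, hg⟩ := hε.exists_coord le_rfl (AModX.res Q hVW a)
    obtain ⟨g', hg'⟩ := hε.exists_coord le_rfl (AModX.res Q hVW b)
    rw [AModX.res_self] at hg hg'
    have hD : locus a ⊓ V = X.basicOpen g := locus_inf a hVW hε hg
    have hD' : locus a ⊓ V = X.basicOpen g' := hl ▸ locus_inf b hVW hε hg'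
    have hle : X.basicOpen g ≤ locus a := hD.ge.trans inf_le_left
    have heq : AModX.resR (X.basicOpen_le g) g = AModX.resR (X.basicOpen_le g) g' := by
      refine hε.coord_unique (X.basicOpen_le g) ?_
      rw [← AModX.res_smul, ← AModX.res_smul, ← hg, ← hg', AModX.res_res, AModX.res_res]
      have := congrArg (AModX.res Q hle) hab
      rw [AModX.res_res, AModX.res_res] at this
      exact this
    have hδ0 : AModX.resR (X.basicOpen_le g) (g' - g) = 0 := by rw [map_sub, heq, sub_self]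
    have hδn : IsNilpotent (g' - g) := by
      rw [Scheme.isNilpotent_iff_basicOpen_eq_bot_of_isCompact hVa.isCompact]
      have h1 : X.basicOpen (g' - g) ≤ X.basicOpen g :=
        (basicOpen_le_of_sub g g').trans (sup_le le_rfl (hD'.ge.trans hD.le))
      have h2 : X.basicOpen (AModX.resR (X.basicOpen_le g) (g' - g)) = X.basicOpen g ⊓ X.basicOpen (g' - g) :=
        Scheme.basicOpen_res _ _ _
      rw [hδ0, Scheme.basicOpen_zero, inf_eq_right.mpr h1] at h2
      exact h2.symm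
    haveI := hVa.isLocalization_basicOpen g
    obtain ⟨⟨_, M, rfl⟩, hM⟩ :=
      (IsLocalization.map_eq_zero_iff (Submonoid.powers g) Γ(X, X.basicOpen g) (g' - g)).mp hδ0
    obtain ⟨N, hN⟩ := hδn
    refine ⟨M + N, fun m hm => ?_⟩
    rw [res_powElt, res_powElt, hg, hg', powElt_smul, powElt_smul,
      show g' = g + (g' - g) by ring, pow_add_eq_pow hM hN hm]
  choose m₀ hm₀ using h
  have := hs.to_subtype
  obtain ⟨M, hM⟩ := Finite.exists_le m₀
  refine ⟨M, fun m hm => AModX.eq_of_locally _ _ fun x hx => ?_⟩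
  obtain ⟨V, hVs, hxV⟩ := hcov x hx
  exact ⟨V, (hsV V hVs).1, hxV, hm₀ ⟨V, hVs⟩ m ((hM _).trans hm)⟩

variable (i : Z ⟶ X)

theorem exists_global_section [IsClosedImmersion i] [Surjective i] [CompactSpace X] [QuasiSeparatedSpace X]
    {P : X.Modules} (hP : PicF.IsInvertible P) (s : Γ((Scheme.Modules.pullback i).obj P, i ⁻¹ᵁ ⊤))
    {U : X.Opens} (hU : IsAffineOpen U) (hs : locus s = i ⁻¹ᵁ U) :
    ∃ (k : ℕ) (_ : 0 < k) (T : Γ(CohB1.tensorPow P k, ⊤)), locus T = U := by
  classical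
  let Qi := (Scheme.Modules.pullback i).obj P
  have hσ := isFrame_res_of_le s hs.ge
  obtain ⟨e, he, hpe⟩ := exists_frame_lift i hP hU _ hσ
  obtain ⟨S, hS, hSV, hcov⟩ := exists_affine_frame_cover hP (W := (⊤ : X.Opens)) isCompact_univ
  have hchart : ∀ V : S, ∃ k₀ : ℕ, ∀ k, k₀ ≤ k → ∃ G : Γ(CohB1.tensorPow P k, V.1), locus G = U ⊓ V.1 ∧
      AModX.res _ (inf_le_right : U ⊓ V.1 ≤ V.1) G = AModX.res _ inf_le_left (powElt e k) := by
    intro ⟨V, hVS⟩
    obtain ⟨-, hVa, ε, hε⟩ := hSV V hVS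
    have hεi := InvX.isFrame_pullElt i hε
    obtain ⟨c, hc⟩ := hεi.exists_coord le_rfl (AModX.res Qi (i.preimage_mono le_top) s)
    rw [AModX.res_self] at hc
    obtain ⟨f, rfl⟩ := i.app_surjective V hVa c
    have hD : X.basicOpen f = U ⊓ V := by
      refine opens_eq_of_preimage i ?_
      rw [Scheme.preimage_basicOpen, ← locus_inf s (i.preimage_mono le_top) hεi hc, hs]
      rfl
    let D := X.basicOpen f
    have hDV : D ≤ V := X.basicOpen_le f
    have hDU : D ≤ U := hD.le.trans inf_le_left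
    obtain ⟨w, hw⟩ := hε.exists_coord hDV (AModX.res P hDU e)
    have hnil : IsNilpotent (w - AModX.resR hDV f) := by
      refine isNilpotent_of_app_eq_zero i (hVa.basicOpen f).isCompact ?_
      rw [map_sub, sub_eq_zero]
      refine (InvX.isFrame_pullElt i (hε.res hDV)).coord_unique le_rfl ?_
      rw [AModX.res_self, ← InvX.pullElt_smul, ← InvX.pullElt_smul, ← hw, ← AModX.res_smul,
        ← InvX.res_pullElt i hDU, hpe, AModX.res_res, ← InvX.res_pullElt i hDV, InvX.pullElt_smul, ← hc,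
        AModX.res_res]
    haveI := hVa.isLocalization_basicOpen f
    obtain ⟨k₀, hk₀⟩ := exists_pow_lift (S := Γ(X, D)) f w hnil
    refine ⟨k₀ + 1, fun k hk => ?_⟩
    obtain ⟨g, hg, hgn⟩ := hk₀ k (by omega)
    refine ⟨g • powElt ε k, ?_, ?_⟩
    · rw [locus_smul (InvX.isInvertible_tensorPow hP k), basicOpen_eq_of_isNilpotent g (f ^ k) hgn,
        X.basicOpen_pow f (show 0 < k by omega), ← hD]
      exact inf_eq_right.mpr (hDV.trans (le_locus _ le_rfl (by rw [AModX.res_self]; exact isFrame_powElt hε k)))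
    · have hg' : AModX.resR hDV g = w ^ k := hg
      have h1 : AModX.res _ hDV (g • powElt ε k) = AModX.res _ hDU (powElt e k) := by
        rw [AModX.res_smul, res_powElt, res_powElt, hw, powElt_smul, hg']
      have h2 := congrArg (AModX.res (CohB1.tensorPow P k) hD.ge) h1
      rw [AModX.res_res, AModX.res_res] at h2
      exact h2
  choose k₀ hk₀ using hchart
  have := hS.to_subtype
  obtain ⟨K, hK⟩ := Finite.exists_le k₀
  let k := K + 1
  let Q := CohB1.tensorPow P k
  have hQ : PicF.IsInvertible Q := InvX.isInvertible_tensorPow hP k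
  have hG := fun V : S => hk₀ V k ((hK V).trans (Nat.le_succ K))
  choose G hGl hGe using hG
  have hover : ∀ p : S × S, ∃ m₀ : ℕ, ∀ m, m₀ ≤ m →
      AModX.res (CohB1.tensorPow Q m) (inf_le_left : p.1.1 ⊓ p.2.1 ≤ p.1.1) (powElt (G p.1) m) =
        AModX.res (CohB1.tensorPow Q m) inf_le_right (powElt (G p.2) m) := by
    intro ⟨V, V'⟩
    have hloc : ∀ (A : S) (h : V.1 ⊓ V'.1 ≤ A.1),
        locus (AModX.res Q h (G A)) = U ⊓ (V.1 ⊓ V'.1) := fun A h => by
      rw [locus_res, hGl, inf_assoc, inf_eq_right.mpr h]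
    have hres : ∀ (A : S) (h : V.1 ⊓ V'.1 ≤ A.1) (h' : locus (AModX.res Q h (G A)) ≤ V.1 ⊓ V'.1)
        (O : X.Opens) (hO : O ≤ V.1 ⊓ V'.1) (hOU : O ≤ U),
        AModX.res Q hO (AModX.res Q h (G A)) = AModX.res Q hOU (powElt e k) := fun A h _ O hO hOU => by
      have h2 := congrArg (AModX.res Q (le_inf hOU (hO.trans h))) (hGe A)
      rw [AModX.res_res, AModX.res_res] at h2
      rw [AModX.res_res]
      exact h2
    obtain ⟨m₀, hm₀⟩ := eventually_powElt_eq hQ
      (QuasiSeparatedSpace.inter_isCompact (α := X) (V.1 : Set X) (V'.1 : Set X)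
        V.1.2 (hSV _ V.2).2.1.isCompact V'.1.2 (hSV _ V'.2).2.1.isCompact)
      (AModX.res Q (inf_le_left : V.1 ⊓ V'.1 ≤ V.1) (G V))
      (AModX.res Q (inf_le_right : V.1 ⊓ V'.1 ≤ V'.1) (G V'))
      ((hloc V inf_le_left).trans (hloc V' inf_le_right).symm)
      ((hres V inf_le_left (locus_le _) _ (locus_le _) ((hloc V inf_le_left).le.trans inf_le_left)).trans
        (hres V' inf_le_right (locus_le _) _ (locus_le _) ((hloc V inf_le_left).le.trans inf_le_left)).symm)
    refine ⟨m₀, fun m hm => ?_⟩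
    rw [res_powElt, res_powElt]
    exact hm₀ m hm
  choose m₀ hm₀ using hover
  obtain ⟨M, hM⟩ := Finite.exists_le m₀
  let m := M + 1
  obtain ⟨T, hT, -⟩ := AModX.existsUnique_glue (M := CohB1.tensorPow Q m) (V := (⊤ : X.Opens))
    (fun V : S => V.1) (fun _ => le_top)
    (fun x hx => by obtain ⟨V, hV, hxV⟩ := hcov x hx; exact ⟨⟨V, hV⟩, hxV⟩)
    (fun V => powElt (G V) m) fun V V' => hm₀ (V, V') m ((hM _).trans (Nat.le_succ M))
  have hlT : locus T = U := by
    refine Opens.ext (Set.ext fun x => ?_)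
    obtain ⟨V, hV, hxV⟩ := hcov x trivial
    have h1 := congrArg locus (hT ⟨V, hV⟩)
    rw [locus_res, locus_powElt hQ (G ⟨V, hV⟩) M, hGl] at h1
    have h2 := congrArg (fun O : X.Opens => x ∈ O) h1
    simpa [Opens.mem_inf, hxV] using Iff.of_eq h2
  obtain ⟨T', hT'⟩ := exists_locus_cl (N := CohB1.tensorPow P (k * m))
    (show PicF.cl (CohB1.tensorPow Q m) = _ by
      rw [cl_tensorPow, cl_tensorPow, cl_tensorPow, pow_mul]) T
  exact ⟨k * m, Nat.mul_pos (Nat.succ_pos K) (Nat.succ_pos M), T', hT'.trans hlT⟩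

end Groth.Agent.NilAmple
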