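import Groth.Agent.AmpleX.Sect
import Groth.Agent.NilAmple.Alg
import Mathlib.AlgebraicGeometry.Morphisms.ClosedImmersion

/-!
Frames lift along closed immersions which are homeomorphisms.
-/

set_option autoImplicit false
set_option backward.isDefEq.respectTransparency false
set_option backward.isDefEq.respectTransparency.types false

universe u

open CategoryTheory AlgebraicGeometry TopologicalSpace

namespace Groth.Agent.NilAmple

open Groth.Agent Groth.Agent.AmpleX

variable {X Z : Scheme.{u}} (i : Z ⟶ X)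

theorem opens_eq_of_preimage [Surjective i] {A B : X.Opens} (h : i ⁻¹ᵁ A = i ⁻¹ᵁ B) : A = B := by
  refine Opens.ext (Set.ext fun x => ?_)
  obtain ⟨z, rfl⟩ := i.surjective x
  exact Iff.of_eq (congrArg (fun O : Z.Opens => z ∈ O) h)

theorem isNilpotent_of_app_eq_zero [Surjective i] {U : X.Opens} (hU : IsCompact (U : Set X)) {a : Γ(X, U)}
    (h : i.app U a = 0) : IsNilpotent a := by
  rw [Scheme.isNilpotent_iff_basicOpen_eq_bot_of_isCompact hU]
  refine opens_eq_of_preimage i ?_
  rw [Scheme.preimage_basicOpen, h, Scheme.basicOpen_zero]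
  rfl

/-- A frame of the pullback over an affine open lifts to a frame. -/
theorem exists_frame_lift [IsClosedImmersion i] [Surjective i] {P : X.Modules} (hP : PicF.IsInvertible P)
    {U : X.Opens} (hU : IsAffineOpen U) (σ : Γ((Scheme.Modules.pullback i).obj P, i ⁻¹ᵁ U))
    (hσ : InvX.IsFrame σ) :
    ∃ e : Γ(P, U), InvX.IsFrame e ∧ InvX.pullElt i e = σ := by
  classical
  let Q := (Scheme.Modules.pullback i).obj P
  have hQ : Coh.IsQCoh Q := ProjUPX.isQCoh_of_isInvertible (PicClLib.isInvertible_pullback i hP)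
  have hPq : Coh.IsQCoh P := ProjUPX.isQCoh_of_isInvertible hP
  have hloc : ∀ x : U, ∃ (a : Γ(X, U)) (N : ℕ) (T : Γ(P, U)), x.1 ∈ X.basicOpen a ∧
      InvX.pullElt i T = i.app U a ^ N • σ := by
    intro x
    obtain ⟨V, hxV, ε, hε⟩ := InvX.exists_frame hP x.1
    obtain ⟨a, ha, hxa⟩ := hU.exists_basicOpen_le ⟨x.1, hxV⟩ x.2
    let D := X.basicOpen a
    have hεD : InvX.IsFrame (AModX.res P ha ε) := hε.res ha
    obtain ⟨c', hc'⟩ := (InvX.isFrame_pullElt i hεD).exists_coord le_rfl
      (AModX.res Q (i.preimage_mono (X.basicOpen_le a)) σ)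
    rw [AModX.res_self] at hc'
    obtain ⟨c, rfl⟩ := i.app_surjective D (hU.basicOpen a) c'
    obtain ⟨n, T, hT⟩ := QCoh.exists_pow_smul_eq_map hPq hU a (c • AModX.res P ha ε)
    set d : Γ(Q, i ⁻¹ᵁ U) := InvX.pullElt i T - i.app U a ^ n • σ with hd
    have hb : Z.basicOpen (i.app U a) = i ⁻¹ᵁ D := (Scheme.preimage_basicOpen i a).symm
    have hd0 : AModX.res Q (Z.basicOpen_le (i.app U a)) d = 0 := by
      suffices h : AModX.res Q (i.preimage_mono (X.basicOpen_le a)) d = 0 by
        rw [← AModX.res_res (i.preimage_mono (X.basicOpen_le a)) hb.le, h, map_zero]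
      have hT' : AModX.res P (X.basicOpen_le a) T =
          AModX.resR (X.basicOpen_le a) a ^ n • c • AModX.res P ha ε := hT
      have hnat : AModX.resR (i.preimage_mono (X.basicOpen_le a)) (i.app U a) =
          i.app D (AModX.resR (X.basicOpen_le a) a) :=
        (ConcreteCategory.congr_hom (i.naturality (homOfLE (X.basicOpen_le a)).op) a).symm
      rw [hd, map_sub, InvX.res_pullElt, hT', InvX.pullElt_smul, InvX.pullElt_smul, map_pow,
        AModX.res_smul, map_pow, hc', hnat, sub_self]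
      exact X.basicOpen_le a
    obtain ⟨M, hM⟩ := QCoh.exists_pow_smul_eq_zero hQ (hU.preimage i) (i.app U a) d hd0
    refine ⟨a, M + n, a ^ M • T, hxa, ?_⟩
    rw [hd, smul_sub, sub_eq_zero, ← mul_smul, ← pow_add] at hM
    rw [InvX.pullElt_smul, map_pow, hM]
  choose a N T hxa hT using hloc
  have hspan : Ideal.span (Set.range fun x : U => a x ^ N x) = ⊤ := by
    have h1 : Ideal.span (Set.range a) = ⊤ :=
      hU.iSup_basicOpen_eq_self_iff.mp (le_antisymm (iSup_le fun f => X.basicOpen_le _) fun x hx =>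
        Opens.mem_iSup.mpr ⟨⟨a ⟨x, hx⟩, Set.mem_range_self _⟩, hxa ⟨x, hx⟩⟩)
    have h2 := Ideal.span_range_pow_eq_top _ h1 fun f => N f.2.choose
    refine top_le_iff.mp (h2.ge.trans (Ideal.span_le.mpr ?_))
    rintro _ ⟨f, rfl⟩
    refine Ideal.subset_span ⟨f.2.choose, ?_⟩
    show a f.2.choose ^ N f.2.choose = (f : Γ(X, U)) ^ N f.2.choose
    rw [f.2.choose_spec]
  obtain ⟨r, hr⟩ := Finsupp.mem_span_range_iff_exists_finsupp.mp ((Ideal.eq_top_iff_one _).mp hspan)
  let e : Γ(P, U) := r.sum fun x c => c • T x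
  have he : InvX.pullElt i e = σ := by
    let φ : Γ(P, U) →+ Γ(Q, i ⁻¹ᵁ U) := AddMonoidHom.mk' (InvX.pullElt i) fun x y =>
      map_add (((Scheme.Modules.pullbackPushforwardAdjunction i).unit.app P).app U).hom x y
    show φ (r.sum fun x c => c • T x) = σ
    rw [map_finsuppSum]
    have : ∀ x c, φ (c • T x) = i.app U (c * a x ^ N x) • σ := fun x c => by
      show InvX.pullElt i (c • T x) = _
      rw [InvX.pullElt_smul, hT, ← mul_smul, map_mul, map_pow]
    simp only [this]
    rw [Finsupp.sum, ← Finset.sum_smul, ← map_sum]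
    have h1 : ∑ x ∈ r.support, r x * a x ^ N x = 1 := hr
    rw [h1, map_one, one_smul]
  refine ⟨e, ?_, he⟩
  have hl : locus e = U := by
    refine opens_eq_of_preimage i ?_
    rw [← locus_pullElt hP i e, he]
    exact le_antisymm (locus_le σ) (le_locus σ le_rfl (by rw [AModX.res_self]; exact hσ))
  have := isFrame_res_of_le e hl.ge
  rwa [AModX.res_self] at this

end Groth.Agent.NilAmple
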